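import Cfsg.Agent.Lib.CosetEnum.Y5Chain8.Data

/-! Generated certificate. -/

set_option autoImplicit false
set_option maxRecDepth 20000

namespace Cfsg.Lib.CosetEnum.Y5Chain8

theorem closed_0 : closedOK tabF tabZ tabP 1 2 11 [0] 2 0 = true := by decide +kernel

end Cfsg.Lib.CosetEnum.Y5Chain8
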